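import Mathlib.RingTheory.LaurentSeries
import Mathlib.RingTheory.PowerSeries.Inverse
import Mathlib.RingTheory.Henselian
import Mathlib.FieldTheory.IsSepClosed
import Mathlib.RingTheory.RootsOfUnity.PrimitiveRoots
import Mathlib.RingTheory.RootsOfUnity.AlgebraicallyClosed

/-! # Laurent series over local rings -/

universe u

open Polynomial IsLocalRing

set_option autoImplicit false
set_option linter.style.haveILetI false
set_option linter.unusedSectionVars false

noncomputable section

namespace Groth.L27.LaurentEt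

section Coeff

variable {R S : Type u} [CommRing R] [CommRing S] (f : R →+* S)

/-- Coefficientwise application of a ring map. -/
def mapL : LaurentSeries R →+* LaurentSeries S where
  toFun x := x.map f
  map_one' := HahnSeries.ext (funext fun n => by
    simp only [HahnSeries.map_coeff, HahnSeries.coeff_one]; split_ifs <;> simp)
  map_mul' x y := HahnSeries.map_mul (f : R →ₙ+* S)
  map_zero' := HahnSeries.ext (funext fun n => by simp)
  map_add' x y := HahnSeries.ext (funext fun n => by simp)

theorem mapL_coeff (x : LaurentSeries R) (n : ℤ) : (mapL f x).coeff n = f (x.coeff n) := rfl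

theorem eq_mapL (ρ : LaurentSeries R →+* LaurentSeries S)
    (hρ : ρ.comp (HahnSeries.ofPowerSeries ℤ R) = (HahnSeries.ofPowerSeries ℤ S).comp (PowerSeries.map f)) :
    ρ = mapL f := by
  refine IsLocalization.ringHom_ext (Submonoid.powers (PowerSeries.X : PowerSeries R)) ?_
  refine hρ.trans (RingHom.ext fun p => HahnSeries.ext (funext fun n => ?_))
  show (HahnSeries.ofPowerSeries ℤ S (PowerSeries.map f p)).coeff n =
    f ((HahnSeries.ofPowerSeries ℤ R p).coeff n)
  rw [PowerSeries.coeff_coe, PowerSeries.coeff_coe]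
  split_ifs with h
  · rw [map_zero]
  · rfl

end Coeff

section Idem

variable {R : Type u} [CommRing R]

theorem isNilpotent_single (n : ℤ) {a : R} (h : IsNilpotent a) : IsNilpotent (HahnSeries.single n a) := by
  obtain ⟨k, hk⟩ := h
  exact ⟨k, by rw [HahnSeries.single_pow, hk, HahnSeries.single_eq_zero]⟩

theorem isUnit_one_sub_of_nilpotent_coeff (d : LaurentSeries R) (h : ∀ n, IsNilpotent (d.coeff n)) :
    IsUnit (1 - d) := by
  classical
  have hfin : {n : ℤ | n < 0 ∧ d.coeff n ≠ 0}.Finite :=
    (Set.finite_Ico d.order 0).subset fun n hn => ⟨HahnSeries.order_le_of_coeff_ne_zero hn.2, hn.1⟩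
  let N : LaurentSeries R := ∑ n ∈ hfin.toFinset, HahnSeries.single n (d.coeff n)
  let p : PowerSeries R := PowerSeries.mk fun n => d.coeff n
  have hd : d = N + HahnSeries.ofPowerSeries ℤ R p := by
    refine HahnSeries.ext (funext fun n => ?_)
    rw [HahnSeries.coeff_add, HahnSeries.coeff_sum, PowerSeries.coeff_coe]
    rcases lt_or_ge n 0 with hn | hn
    · rw [if_pos hn, add_zero, Finset.sum_eq_single n]
      · rw [HahnSeries.coeff_single_same]
      · intro b _ hb; exact HahnSeries.coeff_single_of_ne hb.symm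
      · intro hm
        rw [HahnSeries.coeff_single_same]
        by_contra hne
        exact hm (hfin.mem_toFinset.2 ⟨hn, hne⟩)
    · rw [if_neg (not_lt.2 hn), Finset.sum_eq_zero, zero_add, PowerSeries.coeff_mk, Int.natAbs_of_nonneg hn]
      intro b hb
      exact HahnSeries.coeff_single_of_ne fun hbn => (not_lt.2 hn) (hbn ▸ (hfin.mem_toFinset.1 hb).1)
  have hN : IsNilpotent (-N) :=
    (isNilpotent_sum fun n _ => isNilpotent_single n (h n)).neg
  have hp : IsUnit (HahnSeries.ofPowerSeries ℤ R (1 - p)) := by
    refine IsUnit.map (HahnSeries.ofPowerSeries ℤ R) (PowerSeries.isUnit_iff_constantCoeff.2 ?_)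
    rw [map_sub, map_one, PowerSeries.constantCoeff_mk]
    exact (h 0).isUnit_one_sub
  have := hN.isUnit_add_left_of_commute hp (Commute.all _ _)
  convert this using 1
  rw [hd, map_sub, map_one]
  ring

/-- Laurent series over a local ring have no nontrivial idempotents. -/
theorem idempotent_eq [IsLocalRing R] (e : LaurentSeries R) (he : IsIdempotentElem e) : e = 0 ∨ e = 1 := by
  have key : ∀ d : LaurentSeries R, IsIdempotentElem d → ¬ IsUnit (d.coeff 0) → d = 0 := by
    intro d hd h0
    have hn : ∀ n, IsNilpotent (d.coeff n) := by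
      intro n
      rw [nilpotent_iff_mem_prime]
      intro P hP
      let f := Ideal.Quotient.mk P
      have hi : IsIdempotentElem (mapL f d) := hd.map _
      rcases IsIdempotentElem.iff_eq_zero_or_one.1 hi with h | h
      · exact Ideal.Quotient.eq_zero_iff_mem.1 (congrArg (fun x : LaurentSeries (R ⧸ P) => x.coeff n) h)
      · refine absurd (congrArg (fun x : LaurentSeries (R ⧸ P) => x.coeff 0) h) fun h' => ?_
        change f (d.coeff 0) = _ at h'
        rw [HahnSeries.coeff_one, if_pos rfl, ← map_one f, Ideal.Quotient.eq] at h'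
        have hu : IsUnit (1 - d.coeff 0) := IsLocalRing.isUnit_one_sub_self_of_mem_nonunits _ h0
        exact hP.ne_top (Ideal.eq_top_of_isUnit_mem _ (by rw [← neg_sub]; exact P.neg_mem h') hu)
    exact (isUnit_one_sub_of_nilpotent_coeff d hn).mul_left_eq_zero.1 (by rw [mul_sub, mul_one, hd.eq, sub_self] : d * (1 - d) = 0)
  by_cases h : IsUnit (e.coeff 0)
  · right
    refine (sub_eq_zero.1 (key (1 - e) he.one_sub fun hu => ?_)).symm
    rw [HahnSeries.coeff_sub, HahnSeries.coeff_one, if_pos rfl] at hu
    -- both `e₀` and `1 - e₀` units: reduce modulo the maximal ideal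
    have hi : IsIdempotentElem (mapL (residue R) e) := he.map _
    rcases IsIdempotentElem.iff_eq_zero_or_one.1 hi with h' | h'
    · exact (h.map (residue R)).ne_zero (congrArg (fun x : LaurentSeries (ResidueField R) => x.coeff 0) h')
    · refine (hu.map (residue R)).ne_zero ?_
      have h1 := congrArg (fun x : LaurentSeries (ResidueField R) => x.coeff 0) h'
      change residue R (e.coeff 0) = _ at h1
      rw [map_sub, map_one, h1, HahnSeries.coeff_one, if_pos rfl, sub_self]
  · exact Or.inl (key e he h)

end Idem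

section Twist

variable {R : Type u} [CommRing R] (ζ : Rˣ)

/-- The rescaled series. -/
def twistFun (x : LaurentSeries R) : LaurentSeries R where
  coeff g := ((ζ ^ g : Rˣ) : R) * x.coeff g
  isPWO_support' := x.isPWO_support.mono (Function.support_mul_subset_right _ _)

/-- The substitution `u ↦ ζ u`. -/
def twist : LaurentSeries R →+* LaurentSeries R where
  toFun := twistFun ζ
  map_one' := HahnSeries.ext (funext fun g => by
    show ((ζ ^ g : Rˣ) : R) * _ = _
    simp only [HahnSeries.coeff_one]; split_ifs with h <;> simp [h])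
  map_mul' x y := HahnSeries.ext (funext fun g => by
    show ((ζ ^ g : Rˣ) : R) * (x * y).coeff g = _
    have hsupp : ∀ (z : LaurentSeries R) (a : ℤ), a ∈ (twistFun ζ z).support ↔ a ∈ z.support := fun z a => by
      show ((ζ ^ a : Rˣ) : R) * z.coeff a ≠ 0 ↔ z.coeff a ≠ 0
      exact (Units.mul_right_eq_zero _).not
    rw [HahnSeries.coeff_mul, HahnSeries.coeff_mul, Finset.mul_sum]
    refine Finset.sum_congr ?_ fun ij hij => ?_
    · ext ij
      simp only [Finset.mem_addAntidiagonal, hsupp]
    · have hg : ij.1 + ij.2 = g := (Finset.mem_addAntidiagonal.1 hij).2.2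
      show _ = (((ζ ^ ij.1 : Rˣ) : R) * x.coeff ij.1) * (((ζ ^ ij.2 : Rˣ) : R) * y.coeff ij.2)
      rw [← hg, zpow_add, Units.val_mul]
      ring)
  map_zero' := HahnSeries.ext (funext fun g => by show ((ζ ^ g : Rˣ) : R) * _ = _; simp)
  map_add' x y := HahnSeries.ext (funext fun g => by
    show ((ζ ^ g : Rˣ) : R) * _ = ((ζ ^ g : Rˣ) : R) * x.coeff g + ((ζ ^ g : Rˣ) : R) * y.coeff g
    simp [mul_add])

theorem twist_coeff (x : LaurentSeries R) (g : ℤ) : (twist ζ x).coeff g = ((ζ ^ g : Rˣ) : R) * x.coeff g := rfl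

end Twist

section Roots

variable {R : Type u} [CommRing R] [HenselianLocalRing R] [IsSepClosed (ResidueField R)]

/-- Primitive roots of unity of unit order lift. -/
theorem exists_unit_root (d : ℕ) (hd : 0 < d) (hdu : IsUnit (d : R)) :
    ∃ ζ : Rˣ, (ζ ^ (d : ℤ) = 1) ∧ ∀ g : ℤ, ¬ (d : ℤ) ∣ g → IsUnit (((ζ ^ g : Rˣ) : R) - 1) := by
  haveI : NeZero (d : ResidueField R) := ⟨by
    rw [← map_natCast (residue R) d]; exact (hdu.map (residue R)).ne_zero⟩
  haveI : NeZero d := ⟨hd.ne'⟩
  haveI : HasEnoughRootsOfUnity (ResidueField R) d := inferInstance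
  obtain ⟨z, hz⟩ := HasEnoughRootsOfUnity.exists_primitiveRoot (ResidueField R) d
  obtain ⟨a₀, rfl⟩ := residue_surjective z
  have hroot : (X ^ d - 1 : R[X]).eval a₀ ∈ maximalIdeal R := by
    rw [← residue_eq_zero_iff, eval_sub, eval_pow, eval_X, eval_one, map_sub, map_pow, map_one,
      hz.pow_eq_one, sub_self]
  have ha : IsUnit a₀ := by
    by_contra hn
    exact hz.ne_zero hd.ne' ((residue_eq_zero_iff a₀).2 hn)
  have hder : IsUnit ((derivative (X ^ d - 1 : R[X])).eval a₀) := by
    rw [derivative_sub, derivative_X_pow, derivative_one, sub_zero, eval_mul, eval_C, eval_pow, eval_X]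
    exact hdu.mul (ha.pow _)
  obtain ⟨a, hroot', hclose⟩ := HenselianLocalRing.is_henselian (X ^ d - 1 : R[X])
    (by simpa using monic_X_pow_sub_C (1 : R) hd.ne') a₀ hroot hder
  have hres : residue R a = residue R a₀ := by
    rw [← sub_eq_zero, ← map_sub, residue_eq_zero_iff]; exact hclose
  have had : a ^ d = 1 := by
    simpa [IsRoot, sub_eq_zero] using hroot'
  let ζ : Rˣ := Units.ofPowEqOne a d had hd.ne'
  refine ⟨ζ, ?_, fun g hg => ?_⟩
  · rw [zpow_natCast]; exact Units.ext had
  · by_contra hn
    have h0 : residue R ((ζ ^ g : Rˣ) : R) = 1 := by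
      rw [← sub_eq_zero, ← map_one (residue R), ← map_sub, residue_eq_zero_iff]; exact hn
    refine hg ((hz.zpow_eq_one_iff_dvd g).1 ?_)
    have h1 : (residue R : R →* ResidueField R) ((ζ ^ g : Rˣ) : R) =
        ((Units.map (residue R : R →* ResidueField R) ζ) ^ g : (ResidueField R)ˣ) := by
      rw [← map_zpow]; rfl
    rw [Units.val_zpow_eq_zpow_val] at h1
    rw [← hres]
    exact h1.symm.trans h0

end Roots

end Groth.L27.LaurentEt
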