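import Groth.Agent.L27.LaurentEt.Algebra
import Mathlib.AlgebraicGeometry.Morphisms.Etale
import Mathlib.AlgebraicGeometry.Morphisms.Finite
import Mathlib.AlgebraicGeometry.Limits

/-! # Sections of finite etale covers over Laurent series rings -/

universe u

open CategoryTheory CategoryTheory.Limits AlgebraicGeometry IsLocalRing

set_option autoImplicit false
set_option backward.isDefEq.respectTransparency.types false
set_option linter.style.haveILetI false
set_option linter.unusedSectionVars false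

noncomputable section

namespace Groth.L27.LaurentEt

/-- Morphisms to a finite etale scheme which agree somewhere agree, over a connected source. -/
theorem eq_of_comp_eq {A : Type u} [CommRing A] (hA : ∀ e : A, IsIdempotentElem e → e = 0 ∨ e = 1)
    {X S Z : Scheme.{u}} [Nonempty Z] (p : X ⟶ S) [IsFinite p] [Etale p]
    (a b : Spec (CommRingCat.of A) ⟶ X) (hp : a ≫ p = b ≫ p) (z : Z ⟶ Spec (CommRingCat.of A))
    (hz : z ≫ a = z ≫ b) : a = b := by
  let m := pullback.lift a b hp
  let d := pullback.diagonal p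
  haveI : IsOpenImmersion d := inferInstance
  haveI : IsClosedImmersion d := inferInstance
  have hclopen : IsClopen (m ⁻¹' Set.range d) :=
    ⟨d.isClosedEmbedding.isClosed_range.preimage m.continuous, d.isOpenEmbedding.isOpen_range.preimage m.continuous⟩
  obtain ⟨e, he, hE⟩ := PrimeSpectrum.isClopen_iff.1 hclopen
  have hall : Set.range m ⊆ Set.range d := by
    rintro _ ⟨y, rfl⟩
    show y ∈ m ⁻¹' Set.range d
    rcases hA e he with rfl | rfl
    · exfalso
      have hz0 : z (Classical.arbitrary Z) ∈ m ⁻¹' Set.range d := by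
        refine ⟨(z ≫ a) (Classical.arbitrary Z), ?_⟩
        have : z ≫ m = (z ≫ a) ≫ d := by
          refine pullback.hom_ext ?_ ?_
          · rw [Category.assoc, pullback.lift_fst, Category.assoc, pullback.diagonal_fst, Category.comp_id]
          · rw [Category.assoc, pullback.lift_snd, Category.assoc, pullback.diagonal_snd, Category.comp_id, hz]
        exact (Scheme.Hom.comp_apply _ _ _).symm.trans ((congrArg (fun f => f (Classical.arbitrary Z)) this.symm).trans
          (Scheme.Hom.comp_apply _ _ _))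
      rw [hE] at hz0
      rw [PrimeSpectrum.basicOpen_zero] at hz0
      exact hz0
    · rw [hE, PrimeSpectrum.basicOpen_one]; trivial
  have h := IsOpenImmersion.lift_fac d m hall
  have e1 : IsOpenImmersion.lift d m hall = a := by
    calc IsOpenImmersion.lift d m hall = (IsOpenImmersion.lift d m hall ≫ d) ≫ pullback.fst p p := by
          rw [Category.assoc, pullback.diagonal_fst, Category.comp_id]
      _ = a := by rw [h, pullback.lift_fst]
  have e2 : IsOpenImmersion.lift d m hall = b := by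
    calc IsOpenImmersion.lift d m hall = (IsOpenImmersion.lift d m hall ≫ d) ≫ pullback.snd p p := by
          rw [Category.assoc, pullback.diagonal_snd, Category.comp_id]
      _ = b := by rw [h, pullback.lift_snd]
  exact e1.symm.trans e2

variable {R : Type u} [CommRing R] (d : ℕ)
  (hinj : Function.Injective (AddMonoidHom.mulLeft (d : ℤ)))
  (hmono : ∀ g g' : ℤ, AddMonoidHom.mulLeft (d : ℤ) g ≤ AddMonoidHom.mulLeft (d : ℤ) g' ↔ g ≤ g')

/-- The substitution `t ↦ u ^ d`. -/
abbrev emb : LaurentSeries R →+* LaurentSeries R :=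
  HahnSeries.embDomainRingHom (R := R) (AddMonoidHom.mulLeft (d : ℤ)) hinj hmono

theorem emb_coeff_mul (x : LaurentSeries R) (a : ℤ) : (emb d hinj hmono x).coeff ((d : ℤ) * a) = x.coeff a :=
  HahnSeries.embDomain_mk_coeff hinj hmono

theorem emb_coeff_of_not_dvd (x : LaurentSeries R) (g : ℤ) (h : ¬ (d : ℤ) ∣ g) : (emb d hinj hmono x).coeff g = 0 :=
  HahnSeries.embDomain_of_notMem_range (by rintro ⟨a, rfl⟩; exact h ⟨a, rfl⟩)

theorem emb_injective : Function.Injective (emb (R := R) d hinj hmono) := fun x y h =>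
  HahnSeries.ext (funext fun a => by rw [← emb_coeff_mul d hinj hmono x a, h, emb_coeff_mul])

theorem mapL_comp_emb {S : Type u} [CommRing S] (f : R →+* S) :
    (mapL f).comp (emb d hinj hmono) = (emb d hinj hmono).comp (mapL f) := by
  refine RingHom.ext fun x => HahnSeries.ext (funext fun g => ?_)
  show f ((emb d hinj hmono x).coeff g) = (emb d hinj hmono (mapL f x)).coeff g
  by_cases h : (d : ℤ) ∣ g
  · obtain ⟨a, rfl⟩ := h; rw [emb_coeff_mul, emb_coeff_mul, mapL_coeff]
  · rw [emb_coeff_of_not_dvd d hinj hmono x g h, emb_coeff_of_not_dvd d hinj hmono _ g h, map_zero]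

theorem twist_comp_emb (ζ : Rˣ) (hζ : ζ ^ (d : ℤ) = 1) :
    (twist ζ).comp (emb d hinj hmono) = emb d hinj hmono := by
  refine RingHom.ext fun x => HahnSeries.ext (funext fun g => ?_)
  show ((ζ ^ g : Rˣ) : R) * (emb d hinj hmono x).coeff g = _
  by_cases h : (d : ℤ) ∣ g
  · obtain ⟨a, rfl⟩ := h; rw [zpow_mul, hζ, one_zpow, Units.val_one, one_mul]
  · rw [emb_coeff_of_not_dvd d hinj hmono x g h, mul_zero]

theorem mapL_comp_twist {S : Type u} [CommRing S] (f : R →+* S) (ζ : Rˣ) :
    (mapL f).comp (twist ζ) = (twist (Units.map (f : R →* S) ζ)).comp (mapL f) := by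
  refine RingHom.ext fun x => HahnSeries.ext (funext fun g => ?_)
  show f (((ζ ^ g : Rˣ) : R) * x.coeff g) = ((Units.map (f : R →* S) ζ ^ g : Sˣ) : S) * f (x.coeff g)
  rw [map_mul, ← map_zpow]
  rfl

theorem mem_range_emb (hd : 0 < d) (ζ : Rˣ) (hζ : ∀ g : ℤ, ¬ (d : ℤ) ∣ g → IsUnit (((ζ ^ g : Rˣ) : R) - 1))
    (x : LaurentSeries R) (hx : twist ζ x = x) : ∃ y, emb d hinj hmono y = x := by
  have hbdd : BddBelow (Function.support fun a : ℤ => x.coeff ((d : ℤ) * a)) := by
    refine ⟨min x.order 0, fun a ha => ?_⟩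
    have h1 : x.order ≤ (d : ℤ) * a := HahnSeries.order_le_of_coeff_ne_zero ha
    by_contra hlt
    have h2 : a < 0 := lt_of_lt_of_le (not_le.1 hlt) (min_le_right _ _)
    nlinarith [min_le_left x.order 0, (Int.ofNat_le.2 hd : ((1 : ℕ) : ℤ) ≤ d)]
  refine ⟨HahnSeries.ofSuppBddBelow _ hbdd, HahnSeries.ext (funext fun g => ?_)⟩
  by_cases h : (d : ℤ) ∣ g
  · obtain ⟨a, rfl⟩ := h; rw [emb_coeff_mul]; rfl
  · rw [emb_coeff_of_not_dvd d hinj hmono _ g h]
    refine ((hζ g h).mul_right_eq_zero.1 ?_).symm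
    rw [sub_mul, one_mul, sub_eq_zero]
    exact congrArg (fun z : LaurentSeries R => z.coeff g) hx

variable [HenselianLocalRing R] [IsSepClosed (ResidueField R)]
  (ρ : LaurentSeries R →+* LaurentSeries (ResidueField R))
  (hρ : ρ.comp (HahnSeries.ofPowerSeries ℤ R) =
    (HahnSeries.ofPowerSeries ℤ (ResidueField R)).comp (PowerSeries.map (residue R)))
  {X : Scheme.{u}} (p : X ⟶ Spec (CommRingCat.of (LaurentSeries R))) [IsFinite p] [Etale p]

include hρ in
theorem sections_unique (s₁ s₂ : Spec (CommRingCat.of (LaurentSeries R)) ⟶ X) (h₁ : s₁ ≫ p = 𝟙 _) (h₂ : s₂ ≫ p = 𝟙 _)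
    (h : Spec.map (CommRingCat.ofHom ρ) ≫ s₁ = Spec.map (CommRingCat.ofHom ρ) ≫ s₂) : s₁ = s₂ :=
  eq_of_comp_eq idempotent_eq p s₁ s₂ (h₁.trans h₂.symm) _ h

include hρ in
set_option maxHeartbeats 1000000 in
theorem exists_section (hd : 0 < d) (hdu : IsUnit (d : R))
    (hsplit : ∃ (n : ℕ) (e : pullback p (Spec.map (CommRingCat.ofHom (emb d hinj hmono))) ≅
        (∐ fun _ : Fin n => Spec (CommRingCat.of (LaurentSeries R)))),
      e.hom ≫ Sigma.desc (fun _ : Fin n => 𝟙 (Spec (CommRingCat.of (LaurentSeries R)))) =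
        pullback.snd p (Spec.map (CommRingCat.ofHom (emb d hinj hmono))))
    (s' : Spec (CommRingCat.of (LaurentSeries (ResidueField R))) ⟶ X)
    (hs' : s' ≫ p = Spec.map (CommRingCat.ofHom ρ)) :
    ∃ s : Spec (CommRingCat.of (LaurentSeries R)) ⟶ X,
      s ≫ p = 𝟙 _ ∧ Spec.map (CommRingCat.ofHom ρ) ≫ s = s' := by
  obtain rfl := eq_mapL (residue R) ρ hρ
  obtain ⟨n, e, he⟩ := hsplit
  obtain ⟨ζ, hζ1, hζ2⟩ := exists_unit_root d hd hdu
  let L := Spec (CommRingCat.of (LaurentSeries R))
  let k := ResidueField R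
  let ρS := Spec.map (CommRingCat.ofHom (mapL (residue R)))
  let ε := Spec.map (CommRingCat.ofHom (emb (R := R) d hinj hmono))
  let εk := Spec.map (CommRingCat.ofHom (emb (R := k) d hinj hmono))
  let z := εk ≫ s'
  have hze : εk ≫ ρS = ρS ≫ ε := by
    rw [← Spec.map_comp, ← Spec.map_comp, ← CommRingCat.ofHom_comp, ← CommRingCat.ofHom_comp, mapL_comp_emb]
  have hz : z ≫ p = ρS ≫ ε := by rw [Category.assoc, hs', hze]
  let w := pullback.lift z ρS hz ≫ e.hom
  obtain ⟨i, y, hy⟩ : ∃ (i : Fin n) (y : L), Sigma.ι (fun _ : Fin n => L) i y = w default := by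
    let 𝒰 := sigmaOpenCover (fun _ : Fin n => L)
    exact ⟨𝒰.idx (w default), 𝒰.covers (w default)⟩
  have hr : Set.range w ⊆ Set.range (Sigma.ι (fun _ : Fin n => L) i) := by
    rintro _ ⟨x, rfl⟩
    haveI : Subsingleton (Spec (CommRingCat.of (LaurentSeries k))) :=
      inferInstanceAs (Subsingleton (PrimeSpectrum (LaurentSeries k)))
    rw [Subsingleton.elim x (default : Spec (CommRingCat.of (LaurentSeries k)))]
    exact ⟨y, hy⟩
  let v := IsOpenImmersion.lift (Sigma.ι (fun _ : Fin n => L) i) w hr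
  have hv : v ≫ Sigma.ι (fun _ : Fin n => L) i = w := IsOpenImmersion.lift_fac _ _ _
  have hv1 : v = ρS := by
    have h1 := congrArg (· ≫ Sigma.desc (fun _ : Fin n => 𝟙 L)) hv
    simp only [Category.assoc, Sigma.ι_desc, Category.comp_id, w] at h1
    rw [h1, he, pullback.lift_snd]
  let T := (Sigma.ι (fun _ : Fin n => L) i ≫ e.inv) ≫ pullback.fst p ε
  have hTp : T ≫ p = ε := by
    rw [Category.assoc, pullback.condition, ← Category.assoc, Category.assoc (Sigma.ι _ i), ← he,
      e.inv_hom_id_assoc, Sigma.ι_desc]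
    exact Category.id_comp _
  have hTz : ρS ≫ T = z := by
    refine (congrArg (fun f => f ≫ T) hv1.symm).trans ?_
    dsimp only [T]
    rw [← Category.assoc, ← Category.assoc v, hv]
    simp only [w, Category.assoc, Iso.hom_inv_id_assoc]
    exact pullback.lift_fst _ _ _
  -- invariance under the twist
  let σ := Spec.map (CommRingCat.ofHom (twist ζ))
  have hσε : σ ≫ ε = ε := by
    rw [← Spec.map_comp, ← CommRingCat.ofHom_comp, twist_comp_emb d hinj hmono ζ hζ1]
  haveI : Nonempty (Spec (CommRingCat.of (LaurentSeries k))) := ⟨default⟩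
  have hσT : σ ≫ T = T := by
    refine eq_of_comp_eq idempotent_eq p _ _ (by rw [Category.assoc, hTp, hσε]) ρS ?_
    let ζk := Units.map (residue R : R →* k) ζ
    have h1 : ρS ≫ σ = Spec.map (CommRingCat.ofHom (twist ζk)) ≫ ρS := by
      rw [← Spec.map_comp, ← Spec.map_comp, ← CommRingCat.ofHom_comp, ← CommRingCat.ofHom_comp, mapL_comp_twist]
    have h2 : Spec.map (CommRingCat.ofHom (twist ζk)) ≫ εk = εk := by
      rw [← Spec.map_comp, ← CommRingCat.ofHom_comp, twist_comp_emb d hinj hmono ζk]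
      rw [← map_zpow, hζ1, map_one]
    rw [← Category.assoc, h1, Category.assoc, hTz, ← Category.assoc, h2]
  -- descend
  haveI : IsAffine X := isAffine_of_isAffineHom p
  obtain ⟨τ, hτ⟩ := Spec.map_surjective (T ≫ X.isoSpec.hom)
  have hinv : ∀ b, ∃ y, emb d hinj hmono y = τ.hom b := fun b => by
    refine mem_range_emb d hinj hmono hd ζ hζ2 _ ?_
    have h3 : τ ≫ CommRingCat.ofHom (twist ζ) = τ := by
      refine Spec.map_injective ?_
      rw [Spec.map_comp, hτ, ← Category.assoc, hσT]
    exact ConcreteCategory.congr_hom h3 b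
  choose ψ hψ using hinv
  have hinjE := emb_injective (R := R) d hinj hmono
  let Ψ : Γ(X, ⊤) ⟶ CommRingCat.of (LaurentSeries R) := CommRingCat.ofHom
    { toFun := ψ
      map_one' := hinjE (by rw [hψ, map_one, map_one])
      map_mul' := fun a b => hinjE (by rw [hψ, map_mul, map_mul, hψ, hψ])
      map_zero' := hinjE (by rw [hψ, map_zero, map_zero])
      map_add' := fun a b => hinjE (by rw [hψ, map_add, map_add, hψ, hψ]) }
  let s := Spec.map Ψ ≫ X.isoSpec.inv
  have hεs : ε ≫ s = T := by
    show ε ≫ Spec.map Ψ ≫ X.isoSpec.inv = T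
    rw [← Category.assoc, ← Spec.map_comp, show Ψ ≫ CommRingCat.ofHom (emb d hinj hmono) = τ from
      CommRingCat.hom_ext (RingHom.ext hψ), hτ, Category.assoc, Iso.hom_inv_id, Category.comp_id]
  -- cancellation of injective substitutions
  have cancel : ∀ {S : Type u} [CommRing S] (g : S →+* S) (_ : Function.Injective g) {P : CommRingCat.{u}}
      (a b : P ⟶ CommRingCat.of S), Spec.map (CommRingCat.ofHom g) ≫ Spec.map a = Spec.map (CommRingCat.ofHom g) ≫ Spec.map b →
      Spec.map a = Spec.map b := by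
    intro S _ g hg P a b h
    rw [← Spec.map_comp, ← Spec.map_comp] at h
    refine congrArg Spec.map (CommRingCat.hom_ext (RingHom.ext fun x => hg ?_))
    exact ConcreteCategory.congr_hom (Spec.map_injective h) x
  refine ⟨s, ?_, ?_⟩
  · obtain ⟨a, ha⟩ := Spec.map_surjective (s ≫ p)
    rw [← ha, ← Spec.map_id]
    refine cancel _ hinjE _ _ ?_
    rw [ha, Spec.map_id, ← Category.assoc, hεs, hTp]
    exact (Category.comp_id _).symm
  · obtain ⟨a, ha⟩ := Spec.map_surjective ((ρS ≫ s) ≫ X.isoSpec.hom)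
    obtain ⟨b, hb⟩ := Spec.map_surjective (s' ≫ X.isoSpec.hom)
    refine (cancel_mono X.isoSpec.hom).1 ?_
    show (ρS ≫ s) ≫ X.isoSpec.hom = s' ≫ X.isoSpec.hom
    rw [← ha, ← hb]
    refine cancel _ (emb_injective (R := k) d hinj hmono) _ _ ?_
    rw [ha, hb, ← Category.assoc, ← Category.assoc εk ρS, hze, Category.assoc ρS ε s, hεs, hTz,
      ← Category.assoc εk s']

end Groth.L27.LaurentEt
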